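import Mathlib

/-!
Adic completions along maps bijective modulo every power.
-/

universe u

namespace Groth.Agent.AdicCongr

noncomputable section

variable {A B B' : Type u} [CommRing A] [CommRing B] [CommRing B'] [Algebra A B] [Algebra A B']
  (J : Ideal B) (J' : Ideal B')

theorem factor_evalₐ {m n : ℕ} (h : m ≤ n) (x : AdicCompletion J B) :
    Ideal.Quotient.factor (Ideal.pow_le_pow_right h) (AdicCompletion.evalₐ J n x) =
      AdicCompletion.evalₐ J m x := by
  induction x using AdicCompletion.induction_on with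
  | h a =>
    rw [AdicCompletion.evalₐ_mk, AdicCompletion.evalₐ_mk, Ideal.Quotient.factor_mk]
    exact AdicCompletion.Ideal.mk_eq_mk J h a

/-- Algebras with compatibly isomorphic quotients have isomorphic completions. -/
theorem exists_algEquiv (e : ∀ n, (B ⧸ J ^ n) ≃ₐ[A] B' ⧸ J' ^ n)
    (he : ∀ {m n : ℕ} (h : m ≤ n) (x : B ⧸ J ^ n),
      Ideal.Quotient.factor (Ideal.pow_le_pow_right h) (e n x) =
        e m (Ideal.Quotient.factor (Ideal.pow_le_pow_right h) x)) :
    Nonempty (AdicCompletion J B ≃ₐ[A] AdicCompletion J' B') := by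
  have he' : ∀ {m n : ℕ} (h : m ≤ n) (y : B' ⧸ J' ^ n),
      Ideal.Quotient.factor (Ideal.pow_le_pow_right h) ((e n).symm y) =
        (e m).symm (Ideal.Quotient.factor (Ideal.pow_le_pow_right h) y) := fun {m n} h y => by
    apply (e m).injective
    rw [AlgEquiv.apply_symm_apply, ← he h, AlgEquiv.apply_symm_apply]
  let f : ∀ n, AdicCompletion J B →ₐ[A] B' ⧸ J' ^ n := fun n =>
    (e n).toAlgHom.comp ((AdicCompletion.evalₐ J n).restrictScalars A)
  let g : ∀ n, AdicCompletion J' B' →ₐ[A] B ⧸ J ^ n := fun n =>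
    (e n).symm.toAlgHom.comp ((AdicCompletion.evalₐ J' n).restrictScalars A)
  have hf : ∀ {m n : ℕ} (h : m ≤ n),
      (Ideal.Quotient.factorₐ A (Ideal.pow_le_pow_right h)).comp (f n) = f m := fun {m n} h =>
    AlgHom.ext fun x => by
      show Ideal.Quotient.factor (Ideal.pow_le_pow_right h) (e n (AdicCompletion.evalₐ J n x)) =
        e m (AdicCompletion.evalₐ J m x)
      rw [he h, factor_evalₐ J h]
  have hg : ∀ {m n : ℕ} (h : m ≤ n),
      (Ideal.Quotient.factorₐ A (Ideal.pow_le_pow_right h)).comp (g n) = g m := fun {m n} h =>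
    AlgHom.ext fun x => by
      show Ideal.Quotient.factor (Ideal.pow_le_pow_right h) ((e n).symm (AdicCompletion.evalₐ J' n x)) =
        (e m).symm (AdicCompletion.evalₐ J' m x)
      rw [he' h, factor_evalₐ J' h]
  refine ⟨AlgEquiv.ofAlgHom (AdicCompletion.liftAlgHom J' f hf) (AdicCompletion.liftAlgHom J g hg)
    (AlgHom.ext fun y => AdicCompletion.ext_evalₐ fun n => ?_)
    (AlgHom.ext fun y => AdicCompletion.ext_evalₐ fun n => ?_)⟩
  · rw [AlgHom.comp_apply, AdicCompletion.evalₐ_liftAlgHom]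
    show e n (AdicCompletion.evalₐ J n _) = _
    rw [AdicCompletion.evalₐ_liftAlgHom]
    exact (e n).apply_symm_apply _
  · rw [AlgHom.comp_apply, AdicCompletion.evalₐ_liftAlgHom]
    show (e n).symm (AdicCompletion.evalₐ J' n _) = _
    rw [AdicCompletion.evalₐ_liftAlgHom]
    exact (e n).symm_apply_apply _

/-- A map bijective modulo the powers of an ideal induces an isomorphism of completions. -/
theorem exists_algEquiv_of_bijective (φ : B →ₐ[A] B') (hJ : J.map φ.toRingHom = J')
    (hsurj : ∀ n (y : B'), ∃ x, φ x - y ∈ J' ^ n) (hinj : ∀ n x, φ x ∈ J' ^ n → x ∈ J ^ n) :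
    Nonempty (AdicCompletion J B ≃ₐ[A] AdicCompletion J' B') := by
  have hle : ∀ n, J ^ n ≤ (J' ^ n).comap φ := fun n => by
    intro x hx
    show φ x ∈ J' ^ n
    rw [← hJ, ← Ideal.map_pow]
    exact Ideal.mem_map_of_mem _ hx
  let q : ∀ n, (B ⧸ J ^ n) →ₐ[A] B' ⧸ J' ^ n := fun n => Ideal.quotientMapₐ _ φ (hle n)
  have hq : ∀ n, Function.Bijective (q n) := fun n => by
    refine ⟨?_, fun y => ?_⟩
    · rw [injective_iff_map_eq_zero]
      intro x hx
      obtain ⟨x, rfl⟩ := Ideal.Quotient.mk_surjective x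
      rw [Ideal.Quotient.eq_zero_iff_mem]
      have hx' : Ideal.Quotient.mk (J' ^ n) (φ x) = 0 := hx
      exact hinj n x (Ideal.Quotient.eq_zero_iff_mem.1 hx')
    · obtain ⟨y, rfl⟩ := Ideal.Quotient.mk_surjective y
      obtain ⟨x, hx⟩ := hsurj n y
      exact ⟨Ideal.Quotient.mk _ x, Ideal.Quotient.eq.2 hx⟩
  refine exists_algEquiv J J' (fun n => AlgEquiv.ofBijective (q n) (hq n)) fun {m n} h x => ?_
  obtain ⟨x, rfl⟩ := Ideal.Quotient.mk_surjective x
  rfl

end

end Groth.Agent.AdicCongr
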